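import Cfsg.Agent.Lib.ChevMult.TorusEngine
import Cfsg.Agent.Lib.SteinbergPres.StCertD4

/-! Words making two roots of D4 positive. -/

set_option autoImplicit false
set_option maxRecDepth 10000

namespace CfsgLib.ChevMult

open Cfsg.Lie CfsgLib.Twisted CfsgLib.SteinbergPres

/-- a word in base 5 -/
def decodeD4 : ℕ → ℕ → List ℕ
  | 0, _ => []
  | fuel + 1, c => if Nat.beq c 0 then [] else (c % 5 - 1) :: decodeD4 fuel (c / 5)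

/-- the words -/
def codesD4 : List (List ℕ) :=
  [[0, 13964, 2792, 2172, 2792, 12167, 972, 2792, 2172, 2792, 5917, 13964, 2792, 2792, 13964, 2792, 2172, 2792, 2792, 972, 2792, 2172, 2792, 0],
    [13964, 0, 558, 434, 2433, 558, 194, 1183, 1059, 45214, 558, 434, 558, 434, 558, 558, 558, 558, 194, 558, 558, 434, 0, 558],
    [2792, 558, 0, 486, 86, 86, 238, 38, 9042, 211, 58, 1808, 86, 86, 86, 86, 86, 86, 38, 58, 86, 0, 86, 86],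
    [2172, 434, 486, 0, 111, 111, 214, 8422, 39, 236, 1684, 59, 111, 111, 111, 111, 111, 111, 39, 59, 0, 111, 111, 111],
    [1472, 2236, 86, 111, 0, 11, 4597, 42, 47, 7, 336, 361, 11, 11, 11, 11, 11, 11, 7, 0, 11, 11, 11, 11],
    [10861, 294, 58, 59, 11, 0, 919, 183, 184, 36, 8, 9, 1, 1, 1, 1, 1, 1, 0, 1, 1, 1, 1, 1],
    [972, 194, 238, 214, 4597, 919, 0, 113, 89, 488, 113, 89, 113, 89, 113, 113, 89, 0, 113, 113, 113, 113, 113, 113],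
    [1472, 988, 38, 8422, 42, 183, 113, 0, 97, 17, 13, 363, 17, 17, 13, 17, 0, 17, 17, 17, 17, 17, 17, 17],
    [1472, 964, 9042, 39, 47, 184, 89, 97, 0, 22, 339, 14, 22, 22, 14, 0, 22, 22, 22, 22, 22, 22, 22, 22],
    [2792, 45214, 192, 197, 7, 36, 447, 17, 22, 0, 67, 72, 2, 2, 0, 2, 2, 2, 2, 2, 2, 2, 2, 2],
    [4863, 294, 58, 1684, 336, 8, 69, 13, 339, 67, 0, 19, 3, 0, 3, 3, 3, 3, 3, 3, 3, 3, 3, 3],
    [4822, 294, 1808, 59, 361, 9, 69, 363, 14, 72, 19, 0, 0, 4, 4, 4, 4, 4, 4, 4, 4, 4, 4, 4],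
    [972, 558, 58, 111, 11, 1, 113, 13, 22, 2, 3, 0, 0, 0, 0, 0, 0, 0, 0, 0, 0, 0, 0, 0],
    [972, 434, 86, 59, 11, 1, 89, 17, 14, 2, 0, 4, 0, 0, 0, 0, 0, 0, 0, 0, 0, 0, 0, 0],
    [13964, 558, 38, 39, 11, 1, 89, 13, 14, 0, 3, 4, 0, 0, 0, 0, 0, 0, 0, 0, 0, 0, 0, 0],
    [2792, 194, 86, 59, 7, 1, 69, 17, 0, 2, 3, 4, 0, 0, 0, 0, 0, 0, 0, 0, 0, 0, 0, 0],
    [2172, 194, 58, 111, 7, 1, 69, 0, 22, 2, 3, 4, 0, 0, 0, 0, 0, 0, 0, 0, 0, 0, 0, 0],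
    [1472, 294, 38, 39, 7, 1, 0, 13, 14, 2, 3, 4, 0, 0, 0, 0, 0, 0, 0, 0, 0, 0, 0, 0],
    [2172, 194, 38, 39, 7, 0, 69, 13, 14, 2, 3, 4, 0, 0, 0, 0, 0, 0, 0, 0, 0, 0, 0, 0],
    [972, 434, 58, 59, 0, 1, 113, 17, 22, 2, 3, 4, 0, 0, 0, 0, 0, 0, 0, 0, 0, 0, 0, 0],
    [1472, 294, 86, 0, 11, 1, 89, 17, 14, 2, 3, 4, 0, 0, 0, 0, 0, 0, 0, 0, 0, 0, 0, 0],
    [1472, 294, 0, 111, 11, 1, 113, 13, 22, 2, 3, 4, 0, 0, 0, 0, 0, 0, 0, 0, 0, 0, 0, 0],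
    [972, 0, 58, 59, 11, 1, 69, 13, 14, 2, 3, 4, 0, 0, 0, 0, 0, 0, 0, 0, 0, 0, 0, 0],
    [0, 194, 38, 39, 7, 1, 89, 17, 22, 2, 3, 4, 0, 0, 0, 0, 0, 0, 0, 0, 0, 0, 0, 0]]

theorem movesD4 : ∀ r < 24, ∀ s < 24, (Nat.beq s r || Nat.beq s (chevD4.neg r) ||
    moveB chevD4 sigmaD4 (decodeD4 8 ((codesD4.getD r []).getD s 0)) r s) = true := by
  decide +kernel

theorem hmoveD4 {A : CfsgLib.Chevalley.Aux} (h : CfsgLib.Chevalley.Full chevD4 A) :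
    ∀ r < chevD4.nroots, ∀ s < chevD4.nroots, s ≠ r → s ≠ chevD4.neg r → ∃ w : List ℕ,
      (∀ k ∈ w, k < chevD4.rank) ∧ chevD4.IsPosRoot (w.foldl (fun r k => sigmaD4 k r) r) ∧
        chevD4.IsPosRoot (w.foldl (fun r k => sigmaD4 k r) s) := by
  intro r hr s hs h1 h2
  have hB := movesD4 r hr s hs
  simp only [Bool.or_eq_true] at hB
  rcases hB with (e | e) | e
  · exact absurd (Nat.eq_of_beq_eq_true e) h1
  · exact absurd (Nat.eq_of_beq_eq_true e) h2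
  · exact ⟨_, moveB_spec h e⟩

end CfsgLib.ChevMult
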