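import Cfsg.Agent.Lib.ChevMult.SLTabE7

/-! The pair tests of type E7, roots 0 to 125. -/

set_option autoImplicit false
set_option Elab.async false

namespace CfsgLib.ChevMult

theorem slPairsE7_0 : ∀ r < 2, ∀ s < 126, slPairT tabE7 (0 + r) s = true := by
  decide +kernel

theorem slPairsE7_2 : ∀ r < 2, ∀ s < 126, slPairT tabE7 (2 + r) s = true := by
  decide +kernel

theorem slPairsE7_4 : ∀ r < 2, ∀ s < 126, slPairT tabE7 (4 + r) s = true := by
  decide +kernel

theorem slPairsE7_6 : ∀ r < 2, ∀ s < 126, slPairT tabE7 (6 + r) s = true := by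
  decide +kernel

theorem slPairsE7_8 : ∀ r < 2, ∀ s < 126, slPairT tabE7 (8 + r) s = true := by
  decide +kernel

theorem slPairsE7_10 : ∀ r < 2, ∀ s < 126, slPairT tabE7 (10 + r) s = true := by
  decide +kernel

theorem slPairsE7_12 : ∀ r < 2, ∀ s < 126, slPairT tabE7 (12 + r) s = true := by
  decide +kernel

theorem slPairsE7_14 : ∀ r < 2, ∀ s < 126, slPairT tabE7 (14 + r) s = true := by
  decide +kernel

theorem slPairsE7_16 : ∀ r < 2, ∀ s < 126, slPairT tabE7 (16 + r) s = true := by
  decide +kernel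

theorem slPairsE7_18 : ∀ r < 2, ∀ s < 126, slPairT tabE7 (18 + r) s = true := by
  decide +kernel

theorem slPairsE7_20 : ∀ r < 2, ∀ s < 126, slPairT tabE7 (20 + r) s = true := by
  decide +kernel

theorem slPairsE7_22 : ∀ r < 2, ∀ s < 126, slPairT tabE7 (22 + r) s = true := by
  decide +kernel

theorem slPairsE7_24 : ∀ r < 2, ∀ s < 126, slPairT tabE7 (24 + r) s = true := by
  decide +kernel

theorem slPairsE7_26 : ∀ r < 2, ∀ s < 126, slPairT tabE7 (26 + r) s = true := by
  decide +kernel

theorem slPairsE7_28 : ∀ r < 2, ∀ s < 126, slPairT tabE7 (28 + r) s = true := by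
  decide +kernel

theorem slPairsE7_30 : ∀ r < 2, ∀ s < 126, slPairT tabE7 (30 + r) s = true := by
  decide +kernel

theorem slPairsE7_32 : ∀ r < 2, ∀ s < 126, slPairT tabE7 (32 + r) s = true := by
  decide +kernel

theorem slPairsE7_34 : ∀ r < 2, ∀ s < 126, slPairT tabE7 (34 + r) s = true := by
  decide +kernel

theorem slPairsE7_36 : ∀ r < 2, ∀ s < 126, slPairT tabE7 (36 + r) s = true := by
  decide +kernel

theorem slPairsE7_38 : ∀ r < 2, ∀ s < 126, slPairT tabE7 (38 + r) s = true := by
  decide +kernel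

theorem slPairsE7_40 : ∀ r < 2, ∀ s < 126, slPairT tabE7 (40 + r) s = true := by
  decide +kernel

theorem slPairsE7_42 : ∀ r < 2, ∀ s < 126, slPairT tabE7 (42 + r) s = true := by
  decide +kernel

theorem slPairsE7_44 : ∀ r < 2, ∀ s < 126, slPairT tabE7 (44 + r) s = true := by
  decide +kernel

theorem slPairsE7_46 : ∀ r < 2, ∀ s < 126, slPairT tabE7 (46 + r) s = true := by
  decide +kernel

theorem slPairsE7_48 : ∀ r < 2, ∀ s < 126, slPairT tabE7 (48 + r) s = true := by
  decide +kernel

theorem slPairsE7_50 : ∀ r < 2, ∀ s < 126, slPairT tabE7 (50 + r) s = true := by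
  decide +kernel

theorem slPairsE7_52 : ∀ r < 2, ∀ s < 126, slPairT tabE7 (52 + r) s = true := by
  decide +kernel

theorem slPairsE7_54 : ∀ r < 2, ∀ s < 126, slPairT tabE7 (54 + r) s = true := by
  decide +kernel

theorem slPairsE7_56 : ∀ r < 2, ∀ s < 126, slPairT tabE7 (56 + r) s = true := by
  decide +kernel

theorem slPairsE7_58 : ∀ r < 2, ∀ s < 126, slPairT tabE7 (58 + r) s = true := by
  decide +kernel

theorem slPairsE7_60 : ∀ r < 2, ∀ s < 126, slPairT tabE7 (60 + r) s = true := by
  decide +kernel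

theorem slPairsE7_62 : ∀ r < 2, ∀ s < 126, slPairT tabE7 (62 + r) s = true := by
  decide +kernel

theorem slPairsE7_64 : ∀ r < 2, ∀ s < 126, slPairT tabE7 (64 + r) s = true := by
  decide +kernel

theorem slPairsE7_66 : ∀ r < 2, ∀ s < 126, slPairT tabE7 (66 + r) s = true := by
  decide +kernel

theorem slPairsE7_68 : ∀ r < 2, ∀ s < 126, slPairT tabE7 (68 + r) s = true := by
  decide +kernel

theorem slPairsE7_70 : ∀ r < 2, ∀ s < 126, slPairT tabE7 (70 + r) s = true := by
  decide +kernel

theorem slPairsE7_72 : ∀ r < 2, ∀ s < 126, slPairT tabE7 (72 + r) s = true := by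
  decide +kernel

theorem slPairsE7_74 : ∀ r < 2, ∀ s < 126, slPairT tabE7 (74 + r) s = true := by
  decide +kernel

theorem slPairsE7_76 : ∀ r < 2, ∀ s < 126, slPairT tabE7 (76 + r) s = true := by
  decide +kernel

theorem slPairsE7_78 : ∀ r < 2, ∀ s < 126, slPairT tabE7 (78 + r) s = true := by
  decide +kernel

theorem slPairsE7_80 : ∀ r < 2, ∀ s < 126, slPairT tabE7 (80 + r) s = true := by
  decide +kernel

theorem slPairsE7_82 : ∀ r < 2, ∀ s < 126, slPairT tabE7 (82 + r) s = true := by
  decide +kernel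

theorem slPairsE7_84 : ∀ r < 2, ∀ s < 126, slPairT tabE7 (84 + r) s = true := by
  decide +kernel

theorem slPairsE7_86 : ∀ r < 2, ∀ s < 126, slPairT tabE7 (86 + r) s = true := by
  decide +kernel

theorem slPairsE7_88 : ∀ r < 2, ∀ s < 126, slPairT tabE7 (88 + r) s = true := by
  decide +kernel

theorem slPairsE7_90 : ∀ r < 2, ∀ s < 126, slPairT tabE7 (90 + r) s = true := by
  decide +kernel

theorem slPairsE7_92 : ∀ r < 2, ∀ s < 126, slPairT tabE7 (92 + r) s = true := by
  decide +kernel

theorem slPairsE7_94 : ∀ r < 2, ∀ s < 126, slPairT tabE7 (94 + r) s = true := by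
  decide +kernel

theorem slPairsE7_96 : ∀ r < 2, ∀ s < 126, slPairT tabE7 (96 + r) s = true := by
  decide +kernel

theorem slPairsE7_98 : ∀ r < 2, ∀ s < 126, slPairT tabE7 (98 + r) s = true := by
  decide +kernel

theorem slPairsE7_100 : ∀ r < 2, ∀ s < 126, slPairT tabE7 (100 + r) s = true := by
  decide +kernel

theorem slPairsE7_102 : ∀ r < 2, ∀ s < 126, slPairT tabE7 (102 + r) s = true := by
  decide +kernel

theorem slPairsE7_104 : ∀ r < 2, ∀ s < 126, slPairT tabE7 (104 + r) s = true := by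
  decide +kernel

theorem slPairsE7_106 : ∀ r < 2, ∀ s < 126, slPairT tabE7 (106 + r) s = true := by
  decide +kernel

theorem slPairsE7_108 : ∀ r < 2, ∀ s < 126, slPairT tabE7 (108 + r) s = true := by
  decide +kernel

theorem slPairsE7_110 : ∀ r < 2, ∀ s < 126, slPairT tabE7 (110 + r) s = true := by
  decide +kernel

theorem slPairsE7_112 : ∀ r < 2, ∀ s < 126, slPairT tabE7 (112 + r) s = true := by
  decide +kernel

theorem slPairsE7_114 : ∀ r < 2, ∀ s < 126, slPairT tabE7 (114 + r) s = true := by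
  decide +kernel

theorem slPairsE7_116 : ∀ r < 2, ∀ s < 126, slPairT tabE7 (116 + r) s = true := by
  decide +kernel

theorem slPairsE7_118 : ∀ r < 2, ∀ s < 126, slPairT tabE7 (118 + r) s = true := by
  decide +kernel

theorem slPairsE7_120 : ∀ r < 2, ∀ s < 126, slPairT tabE7 (120 + r) s = true := by
  decide +kernel

theorem slPairsE7_122 : ∀ r < 2, ∀ s < 126, slPairT tabE7 (122 + r) s = true := by
  decide +kernel

theorem slPairsE7_124 : ∀ r < 2, ∀ s < 126, slPairT tabE7 (124 + r) s = true := by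
  decide +kernel

end CfsgLib.ChevMult
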